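/-! Generated data: the relator words of the O'Nan group on seven involutions. -/

set_option autoImplicit false

namespace Cfsg.Lib.CosetEnum.ONMat

/-- The relator words. -/
def words : List (List Nat) :=
  [[0, 0], [1, 1], [2, 2], [3, 3], [4, 4], [5, 5], [6, 6], [1, 0, 1, 0, 1, 0], [2, 0, 2, 0], [3, 0, 3, 0], [4, 0, 4, 0], [5, 0, 5, 0], [2, 1, 2, 1, 2, 1], [3, 1, 3, 1], [4, 1, 4, 1], [5, 1, 5, 1], [3, 2, 3, 2, 3, 2, 3, 2, 3, 2, 3, 2, 3, 2, 3, 2], [4, 2, 4, 2], [5, 2, 5, 2], [4, 3, 4, 3, 4, 3], [5, 3, 5, 3], [5, 4, 5, 4, 5, 4], [2, 3, 2, 3, 2, 3, 2, 3, 5, 0], [5, 0, 6, 5, 0, 6], [2, 3, 2, 3, 6, 3, 2, 3, 2, 6], [6, 2, 3, 1, 6, 2, 3, 1, 6, 2, 3, 1, 6, 2, 3, 1, 6, 2, 3, 1], [6, 2, 1, 2, 3, 2, 3, 6, 1, 3, 2, 3, 6, 2, 1, 6, 2], [3, 6, 3, 4, 2, 3, 2, 3,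 6, 4, 3, 6, 2, 3, 2, 4, 6], [6, 3, 6, 2, 6, 2, 3, 2, 6, 2], [6, 2, 6, 2, 3, 2, 6, 2, 6, 3]]

end Cfsg.Lib.CosetEnum.ONMat
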