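import Cfsg.Agent.Lib.CosetEnum.ONMat.Data
import Cfsg.Agent.Lib.CosetEnum.ONMat.Words
import Cfsg.Agent.Lib.PackMat.Defs

/-!
# Checks of the matrices representing `3·O'N`
-/

set_option autoImplicit false
set_option maxRecDepth 20000

namespace Cfsg.Lib.CosetEnum.ONMat

open PackMat

theorem mask_eq : Nat.beq mask (maskOf 45) = true := by decide +kernel

theorem mat0_ok : matOK 45 (rowsOf 0) = true := by decide +kernel

theorem mat1_ok : matOK 45 (rowsOf 1) = true := by decide +kernel

theorem mat2_ok : matOK 45 (rowsOf 2) = true := by decide +kernel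

theorem mat3_ok : matOK 45 (rowsOf 3) = true := by decide +kernel

theorem mat4_ok : matOK 45 (rowsOf 4) = true := by decide +kernel

theorem mat5_ok : matOK 45 (rowsOf 5) = true := by decide +kernel

theorem mat6_ok : matOK 45 (rowsOf 6) = true := by decide +kernel

theorem mats_ok : ∀ g < 7, matOK 45 (rowsOf g) = true
  | 0, _ => mat0_ok
  | 1, _ => mat1_ok
  | 2, _ => mat2_ok
  | 3, _ => mat3_ok
  | 4, _ => mat4_ok
  | 5, _ => mat5_ok
  | 6, _ => mat6_ok
  | n + 7, h => absurd h (Nat.not_lt.2 (Nat.le_add_left 7 n))

theorem lengths : words.length = 30 ∧ relScalars.length = 30 := by decide +kernel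

theorem letters_ok : (words.all fun w => w.all fun g => Nat.blt g 7) = true := by
  decide +kernel

theorem squares : ((List.range 7).all fun g =>
    beqW (words.getD g []) [g, g] && Nat.beq (relScalars.getD g 0) 1) = true := by
  decide +kernel

/-- The image of `a` is not a scalar matrix: some off-diagonal entry is not zero. -/
theorem a_not_scalar : ((List.range 45).any fun i => (List.range 45).any fun j =>
    !(Nat.beq i j) && !(Nat.beq ((unpack 45 ((rowsOf 0).getD i (0, 0)).2).getD j 0) 0)) = true := by
  decide +kernel

end Cfsg.Lib.CosetEnum.ONMat
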