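import Cfsg.Agent.Lib.CosetEnum.ONMat.Data
import Cfsg.Agent.Lib.CosetEnum.ONMat.Words
import Cfsg.Agent.Lib.PackMat.Defs

/-! Generated certificate. -/

set_option autoImplicit false
set_option maxRecDepth 20000

namespace Cfsg.Lib.CosetEnum.ONMat

theorem word0_from0 :
    PackMat.rowsOK mask rowsOf (words.getD 0 []) (relScalars.getD 0 0) 0 5 = true := by
  decide +kernel

theorem word0_from5 :
    PackMat.rowsOK mask rowsOf (words.getD 0 []) (relScalars.getD 0 0) 5 5 = true := by
  decide +kernel

theorem word0_from10 :
    PackMat.rowsOK mask rowsOf (words.getD 0 []) (relScalars.getD 0 0) 10 5 = true := by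
  decide +kernel

theorem word0_from15 :
    PackMat.rowsOK mask rowsOf (words.getD 0 []) (relScalars.getD 0 0) 15 5 = true := by
  decide +kernel

theorem word0_from20 :
    PackMat.rowsOK mask rowsOf (words.getD 0 []) (relScalars.getD 0 0) 20 5 = true := by
  decide +kernel

theorem word0_from25 :
    PackMat.rowsOK mask rowsOf (words.getD 0 []) (relScalars.getD 0 0) 25 5 = true := by
  decide +kernel

theorem word0_from30 :
    PackMat.rowsOK mask rowsOf (words.getD 0 []) (relScalars.getD 0 0) 30 5 = true := by
  decide +kernel

theorem word0_from35 :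
    PackMat.rowsOK mask rowsOf (words.getD 0 []) (relScalars.getD 0 0) 35 5 = true := by
  decide +kernel

theorem word0_from40 :
    PackMat.rowsOK mask rowsOf (words.getD 0 []) (relScalars.getD 0 0) 40 5 = true := by
  decide +kernel

theorem word0_ok : ∀ q < 9,
    PackMat.rowsOK mask rowsOf (words.getD 0 []) (relScalars.getD 0 0) (5 * q) 5 = true
  | 0, _ => word0_from0
  | 1, _ => word0_from5
  | 2, _ => word0_from10
  | 3, _ => word0_from15
  | 4, _ => word0_from20
  | 5, _ => word0_from25
  | 6, _ => word0_from30
  | 7, _ => word0_from35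
  | 8, _ => word0_from40
  | n + 9, h => absurd h (Nat.not_lt.2 (Nat.le_add_left 9 n))

theorem word3_from0 :
    PackMat.rowsOK mask rowsOf (words.getD 3 []) (relScalars.getD 3 0) 0 5 = true := by
  decide +kernel

theorem word3_from5 :
    PackMat.rowsOK mask rowsOf (words.getD 3 []) (relScalars.getD 3 0) 5 5 = true := by
  decide +kernel

theorem word3_from10 :
    PackMat.rowsOK mask rowsOf (words.getD 3 []) (relScalars.getD 3 0) 10 5 = true := by
  decide +kernel

theorem word3_from15 :
    PackMat.rowsOK mask rowsOf (words.getD 3 []) (relScalars.getD 3 0) 15 5 = true := by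
  decide +kernel

theorem word3_from20 :
    PackMat.rowsOK mask rowsOf (words.getD 3 []) (relScalars.getD 3 0) 20 5 = true := by
  decide +kernel

theorem word3_from25 :
    PackMat.rowsOK mask rowsOf (words.getD 3 []) (relScalars.getD 3 0) 25 5 = true := by
  decide +kernel

theorem word3_from30 :
    PackMat.rowsOK mask rowsOf (words.getD 3 []) (relScalars.getD 3 0) 30 5 = true := by
  decide +kernel

theorem word3_from35 :
    PackMat.rowsOK mask rowsOf (words.getD 3 []) (relScalars.getD 3 0) 35 5 = true := by
  decide +kernel

theorem word3_from40 :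
    PackMat.rowsOK mask rowsOf (words.getD 3 []) (relScalars.getD 3 0) 40 5 = true := by
  decide +kernel

theorem word3_ok : ∀ q < 9,
    PackMat.rowsOK mask rowsOf (words.getD 3 []) (relScalars.getD 3 0) (5 * q) 5 = true
  | 0, _ => word3_from0
  | 1, _ => word3_from5
  | 2, _ => word3_from10
  | 3, _ => word3_from15
  | 4, _ => word3_from20
  | 5, _ => word3_from25
  | 6, _ => word3_from30
  | 7, _ => word3_from35
  | 8, _ => word3_from40
  | n + 9, h => absurd h (Nat.not_lt.2 (Nat.le_add_left 9 n))

theorem word10_from0 :
    PackMat.rowsOK mask rowsOf (words.getD 10 []) (relScalars.getD 10 0) 0 5 = true := by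
  decide +kernel

theorem word10_from5 :
    PackMat.rowsOK mask rowsOf (words.getD 10 []) (relScalars.getD 10 0) 5 5 = true := by
  decide +kernel

theorem word10_from10 :
    PackMat.rowsOK mask rowsOf (words.getD 10 []) (relScalars.getD 10 0) 10 5 = true := by
  decide +kernel

theorem word10_from15 :
    PackMat.rowsOK mask rowsOf (words.getD 10 []) (relScalars.getD 10 0) 15 5 = true := by
  decide +kernel

theorem word10_from20 :
    PackMat.rowsOK mask rowsOf (words.getD 10 []) (relScalars.getD 10 0) 20 5 = true := by
  decide +kernel

theorem word10_from25 :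
    PackMat.rowsOK mask rowsOf (words.getD 10 []) (relScalars.getD 10 0) 25 5 = true := by
  decide +kernel

theorem word10_from30 :
    PackMat.rowsOK mask rowsOf (words.getD 10 []) (relScalars.getD 10 0) 30 5 = true := by
  decide +kernel

theorem word10_from35 :
    PackMat.rowsOK mask rowsOf (words.getD 10 []) (relScalars.getD 10 0) 35 5 = true := by
  decide +kernel

theorem word10_from40 :
    PackMat.rowsOK mask rowsOf (words.getD 10 []) (relScalars.getD 10 0) 40 5 = true := by
  decide +kernel

theorem word10_ok : ∀ q < 9,
    PackMat.rowsOK mask rowsOf (words.getD 10 []) (relScalars.getD 10 0) (5 * q) 5 = true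
  | 0, _ => word10_from0
  | 1, _ => word10_from5
  | 2, _ => word10_from10
  | 3, _ => word10_from15
  | 4, _ => word10_from20
  | 5, _ => word10_from25
  | 6, _ => word10_from30
  | 7, _ => word10_from35
  | 8, _ => word10_from40
  | n + 9, h => absurd h (Nat.not_lt.2 (Nat.le_add_left 9 n))

theorem word15_from0 :
    PackMat.rowsOK mask rowsOf (words.getD 15 []) (relScalars.getD 15 0) 0 5 = true := by
  decide +kernel

theorem word15_from5 :
    PackMat.rowsOK mask rowsOf (words.getD 15 []) (relScalars.getD 15 0) 5 5 = true := by
  decide +kernel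

theorem word15_from10 :
    PackMat.rowsOK mask rowsOf (words.getD 15 []) (relScalars.getD 15 0) 10 5 = true := by
  decide +kernel

theorem word15_from15 :
    PackMat.rowsOK mask rowsOf (words.getD 15 []) (relScalars.getD 15 0) 15 5 = true := by
  decide +kernel

theorem word15_from20 :
    PackMat.rowsOK mask rowsOf (words.getD 15 []) (relScalars.getD 15 0) 20 5 = true := by
  decide +kernel

theorem word15_from25 :
    PackMat.rowsOK mask rowsOf (words.getD 15 []) (relScalars.getD 15 0) 25 5 = true := by
  decide +kernel

theorem word15_from30 :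
    PackMat.rowsOK mask rowsOf (words.getD 15 []) (relScalars.getD 15 0) 30 5 = true := by
  decide +kernel

theorem word15_from35 :
    PackMat.rowsOK mask rowsOf (words.getD 15 []) (relScalars.getD 15 0) 35 5 = true := by
  decide +kernel

theorem word15_from40 :
    PackMat.rowsOK mask rowsOf (words.getD 15 []) (relScalars.getD 15 0) 40 5 = true := by
  decide +kernel

theorem word15_ok : ∀ q < 9,
    PackMat.rowsOK mask rowsOf (words.getD 15 []) (relScalars.getD 15 0) (5 * q) 5 = true
  | 0, _ => word15_from0
  | 1, _ => word15_from5
  | 2, _ => word15_from10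
  | 3, _ => word15_from15
  | 4, _ => word15_from20
  | 5, _ => word15_from25
  | 6, _ => word15_from30
  | 7, _ => word15_from35
  | 8, _ => word15_from40
  | n + 9, h => absurd h (Nat.not_lt.2 (Nat.le_add_left 9 n))

theorem word21_from0 :
    PackMat.rowsOK mask rowsOf (words.getD 21 []) (relScalars.getD 21 0) 0 5 = true := by
  decide +kernel

theorem word21_from5 :
    PackMat.rowsOK mask rowsOf (words.getD 21 []) (relScalars.getD 21 0) 5 5 = true := by
  decide +kernel

theorem word21_from10 :
    PackMat.rowsOK mask rowsOf (words.getD 21 []) (relScalars.getD 21 0) 10 5 = true := by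
  decide +kernel

theorem word21_from15 :
    PackMat.rowsOK mask rowsOf (words.getD 21 []) (relScalars.getD 21 0) 15 5 = true := by
  decide +kernel

theorem word21_from20 :
    PackMat.rowsOK mask rowsOf (words.getD 21 []) (relScalars.getD 21 0) 20 5 = true := by
  decide +kernel

theorem word21_from25 :
    PackMat.rowsOK mask rowsOf (words.getD 21 []) (relScalars.getD 21 0) 25 5 = true := by
  decide +kernel

theorem word21_from30 :
    PackMat.rowsOK mask rowsOf (words.getD 21 []) (relScalars.getD 21 0) 30 5 = true := by
  decide +kernel

theorem word21_from35 :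
    PackMat.rowsOK mask rowsOf (words.getD 21 []) (relScalars.getD 21 0) 35 5 = true := by
  decide +kernel

theorem word21_from40 :
    PackMat.rowsOK mask rowsOf (words.getD 21 []) (relScalars.getD 21 0) 40 5 = true := by
  decide +kernel

theorem word21_ok : ∀ q < 9,
    PackMat.rowsOK mask rowsOf (words.getD 21 []) (relScalars.getD 21 0) (5 * q) 5 = true
  | 0, _ => word21_from0
  | 1, _ => word21_from5
  | 2, _ => word21_from10
  | 3, _ => word21_from15
  | 4, _ => word21_from20
  | 5, _ => word21_from25
  | 6, _ => word21_from30
  | 7, _ => word21_from35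
  | 8, _ => word21_from40
  | n + 9, h => absurd h (Nat.not_lt.2 (Nat.le_add_left 9 n))

theorem word25_from0 :
    PackMat.rowsOK mask rowsOf (words.getD 25 []) (relScalars.getD 25 0) 0 5 = true := by
  decide +kernel

theorem word25_from5 :
    PackMat.rowsOK mask rowsOf (words.getD 25 []) (relScalars.getD 25 0) 5 5 = true := by
  decide +kernel

theorem word25_from10 :
    PackMat.rowsOK mask rowsOf (words.getD 25 []) (relScalars.getD 25 0) 10 5 = true := by
  decide +kernel

theorem word25_from15 :
    PackMat.rowsOK mask rowsOf (words.getD 25 []) (relScalars.getD 25 0) 15 5 = true := by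
  decide +kernel

theorem word25_from20 :
    PackMat.rowsOK mask rowsOf (words.getD 25 []) (relScalars.getD 25 0) 20 5 = true := by
  decide +kernel

theorem word25_from25 :
    PackMat.rowsOK mask rowsOf (words.getD 25 []) (relScalars.getD 25 0) 25 5 = true := by
  decide +kernel

theorem word25_from30 :
    PackMat.rowsOK mask rowsOf (words.getD 25 []) (relScalars.getD 25 0) 30 5 = true := by
  decide +kernel

theorem word25_from35 :
    PackMat.rowsOK mask rowsOf (words.getD 25 []) (relScalars.getD 25 0) 35 5 = true := by
  decide +kernel

theorem word25_from40 :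
    PackMat.rowsOK mask rowsOf (words.getD 25 []) (relScalars.getD 25 0) 40 5 = true := by
  decide +kernel

theorem word25_ok : ∀ q < 9,
    PackMat.rowsOK mask rowsOf (words.getD 25 []) (relScalars.getD 25 0) (5 * q) 5 = true
  | 0, _ => word25_from0
  | 1, _ => word25_from5
  | 2, _ => word25_from10
  | 3, _ => word25_from15
  | 4, _ => word25_from20
  | 5, _ => word25_from25
  | 6, _ => word25_from30
  | 7, _ => word25_from35
  | 8, _ => word25_from40
  | n + 9, h => absurd h (Nat.not_lt.2 (Nat.le_add_left 9 n))

theorem word29_from0 :
    PackMat.rowsOK mask rowsOf (words.getD 29 []) (relScalars.getD 29 0) 0 5 = true := by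
  decide +kernel

theorem word29_from5 :
    PackMat.rowsOK mask rowsOf (words.getD 29 []) (relScalars.getD 29 0) 5 5 = true := by
  decide +kernel

theorem word29_from10 :
    PackMat.rowsOK mask rowsOf (words.getD 29 []) (relScalars.getD 29 0) 10 5 = true := by
  decide +kernel

theorem word29_from15 :
    PackMat.rowsOK mask rowsOf (words.getD 29 []) (relScalars.getD 29 0) 15 5 = true := by
  decide +kernel

theorem word29_from20 :
    PackMat.rowsOK mask rowsOf (words.getD 29 []) (relScalars.getD 29 0) 20 5 = true := by
  decide +kernel

theorem word29_from25 :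
    PackMat.rowsOK mask rowsOf (words.getD 29 []) (relScalars.getD 29 0) 25 5 = true := by
  decide +kernel

theorem word29_from30 :
    PackMat.rowsOK mask rowsOf (words.getD 29 []) (relScalars.getD 29 0) 30 5 = true := by
  decide +kernel

theorem word29_from35 :
    PackMat.rowsOK mask rowsOf (words.getD 29 []) (relScalars.getD 29 0) 35 5 = true := by
  decide +kernel

theorem word29_from40 :
    PackMat.rowsOK mask rowsOf (words.getD 29 []) (relScalars.getD 29 0) 40 5 = true := by
  decide +kernel

theorem word29_ok : ∀ q < 9,
    PackMat.rowsOK mask rowsOf (words.getD 29 []) (relScalars.getD 29 0) (5 * q) 5 = true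
  | 0, _ => word29_from0
  | 1, _ => word29_from5
  | 2, _ => word29_from10
  | 3, _ => word29_from15
  | 4, _ => word29_from20
  | 5, _ => word29_from25
  | 6, _ => word29_from30
  | 7, _ => word29_from35
  | 8, _ => word29_from40
  | n + 9, h => absurd h (Nat.not_lt.2 (Nat.le_add_left 9 n))

end Cfsg.Lib.CosetEnum.ONMat
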