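import Cfsg.Agent.Lib.CosetEnum.ONMat.Data
import Cfsg.Agent.Lib.CosetEnum.ONMat.Words
import Cfsg.Agent.Lib.PackMat.Defs

/-! Generated certificate. -/

set_option autoImplicit false
set_option maxRecDepth 20000

namespace Cfsg.Lib.CosetEnum.ONMat

theorem word1_from0 :
    PackMat.rowsOK mask rowsOf (words.getD 1 []) (relScalars.getD 1 0) 0 5 = true := by
  decide +kernel

theorem word1_from5 :
    PackMat.rowsOK mask rowsOf (words.getD 1 []) (relScalars.getD 1 0) 5 5 = true := by
  decide +kernel

theorem word1_from10 :
    PackMat.rowsOK mask rowsOf (words.getD 1 []) (relScalars.getD 1 0) 10 5 = true := by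
  decide +kernel

theorem word1_from15 :
    PackMat.rowsOK mask rowsOf (words.getD 1 []) (relScalars.getD 1 0) 15 5 = true := by
  decide +kernel

theorem word1_from20 :
    PackMat.rowsOK mask rowsOf (words.getD 1 []) (relScalars.getD 1 0) 20 5 = true := by
  decide +kernel

theorem word1_from25 :
    PackMat.rowsOK mask rowsOf (words.getD 1 []) (relScalars.getD 1 0) 25 5 = true := by
  decide +kernel

theorem word1_from30 :
    PackMat.rowsOK mask rowsOf (words.getD 1 []) (relScalars.getD 1 0) 30 5 = true := by
  decide +kernel

theorem word1_from35 :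
    PackMat.rowsOK mask rowsOf (words.getD 1 []) (relScalars.getD 1 0) 35 5 = true := by
  decide +kernel

theorem word1_from40 :
    PackMat.rowsOK mask rowsOf (words.getD 1 []) (relScalars.getD 1 0) 40 5 = true := by
  decide +kernel

theorem word1_ok : ∀ q < 9,
    PackMat.rowsOK mask rowsOf (words.getD 1 []) (relScalars.getD 1 0) (5 * q) 5 = true
  | 0, _ => word1_from0
  | 1, _ => word1_from5
  | 2, _ => word1_from10
  | 3, _ => word1_from15
  | 4, _ => word1_from20
  | 5, _ => word1_from25
  | 6, _ => word1_from30
  | 7, _ => word1_from35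
  | 8, _ => word1_from40
  | n + 9, h => absurd h (Nat.not_lt.2 (Nat.le_add_left 9 n))

theorem word5_from0 :
    PackMat.rowsOK mask rowsOf (words.getD 5 []) (relScalars.getD 5 0) 0 5 = true := by
  decide +kernel

theorem word5_from5 :
    PackMat.rowsOK mask rowsOf (words.getD 5 []) (relScalars.getD 5 0) 5 5 = true := by
  decide +kernel

theorem word5_from10 :
    PackMat.rowsOK mask rowsOf (words.getD 5 []) (relScalars.getD 5 0) 10 5 = true := by
  decide +kernel

theorem word5_from15 :
    PackMat.rowsOK mask rowsOf (words.getD 5 []) (relScalars.getD 5 0) 15 5 = true := by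
  decide +kernel

theorem word5_from20 :
    PackMat.rowsOK mask rowsOf (words.getD 5 []) (relScalars.getD 5 0) 20 5 = true := by
  decide +kernel

theorem word5_from25 :
    PackMat.rowsOK mask rowsOf (words.getD 5 []) (relScalars.getD 5 0) 25 5 = true := by
  decide +kernel

theorem word5_from30 :
    PackMat.rowsOK mask rowsOf (words.getD 5 []) (relScalars.getD 5 0) 30 5 = true := by
  decide +kernel

theorem word5_from35 :
    PackMat.rowsOK mask rowsOf (words.getD 5 []) (relScalars.getD 5 0) 35 5 = true := by
  decide +kernel

theorem word5_from40 :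
    PackMat.rowsOK mask rowsOf (words.getD 5 []) (relScalars.getD 5 0) 40 5 = true := by
  decide +kernel

theorem word5_ok : ∀ q < 9,
    PackMat.rowsOK mask rowsOf (words.getD 5 []) (relScalars.getD 5 0) (5 * q) 5 = true
  | 0, _ => word5_from0
  | 1, _ => word5_from5
  | 2, _ => word5_from10
  | 3, _ => word5_from15
  | 4, _ => word5_from20
  | 5, _ => word5_from25
  | 6, _ => word5_from30
  | 7, _ => word5_from35
  | 8, _ => word5_from40
  | n + 9, h => absurd h (Nat.not_lt.2 (Nat.le_add_left 9 n))

theorem word8_from0 :
    PackMat.rowsOK mask rowsOf (words.getD 8 []) (relScalars.getD 8 0) 0 5 = true := by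
  decide +kernel

theorem word8_from5 :
    PackMat.rowsOK mask rowsOf (words.getD 8 []) (relScalars.getD 8 0) 5 5 = true := by
  decide +kernel

theorem word8_from10 :
    PackMat.rowsOK mask rowsOf (words.getD 8 []) (relScalars.getD 8 0) 10 5 = true := by
  decide +kernel

theorem word8_from15 :
    PackMat.rowsOK mask rowsOf (words.getD 8 []) (relScalars.getD 8 0) 15 5 = true := by
  decide +kernel

theorem word8_from20 :
    PackMat.rowsOK mask rowsOf (words.getD 8 []) (relScalars.getD 8 0) 20 5 = true := by
  decide +kernel

theorem word8_from25 :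
    PackMat.rowsOK mask rowsOf (words.getD 8 []) (relScalars.getD 8 0) 25 5 = true := by
  decide +kernel

theorem word8_from30 :
    PackMat.rowsOK mask rowsOf (words.getD 8 []) (relScalars.getD 8 0) 30 5 = true := by
  decide +kernel

theorem word8_from35 :
    PackMat.rowsOK mask rowsOf (words.getD 8 []) (relScalars.getD 8 0) 35 5 = true := by
  decide +kernel

theorem word8_from40 :
    PackMat.rowsOK mask rowsOf (words.getD 8 []) (relScalars.getD 8 0) 40 5 = true := by
  decide +kernel

theorem word8_ok : ∀ q < 9,
    PackMat.rowsOK mask rowsOf (words.getD 8 []) (relScalars.getD 8 0) (5 * q) 5 = true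
  | 0, _ => word8_from0
  | 1, _ => word8_from5
  | 2, _ => word8_from10
  | 3, _ => word8_from15
  | 4, _ => word8_from20
  | 5, _ => word8_from25
  | 6, _ => word8_from30
  | 7, _ => word8_from35
  | 8, _ => word8_from40
  | n + 9, h => absurd h (Nat.not_lt.2 (Nat.le_add_left 9 n))

theorem word11_from0 :
    PackMat.rowsOK mask rowsOf (words.getD 11 []) (relScalars.getD 11 0) 0 5 = true := by
  decide +kernel

theorem word11_from5 :
    PackMat.rowsOK mask rowsOf (words.getD 11 []) (relScalars.getD 11 0) 5 5 = true := by
  decide +kernel

theorem word11_from10 :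
    PackMat.rowsOK mask rowsOf (words.getD 11 []) (relScalars.getD 11 0) 10 5 = true := by
  decide +kernel

theorem word11_from15 :
    PackMat.rowsOK mask rowsOf (words.getD 11 []) (relScalars.getD 11 0) 15 5 = true := by
  decide +kernel

theorem word11_from20 :
    PackMat.rowsOK mask rowsOf (words.getD 11 []) (relScalars.getD 11 0) 20 5 = true := by
  decide +kernel

theorem word11_from25 :
    PackMat.rowsOK mask rowsOf (words.getD 11 []) (relScalars.getD 11 0) 25 5 = true := by
  decide +kernel

theorem word11_from30 :
    PackMat.rowsOK mask rowsOf (words.getD 11 []) (relScalars.getD 11 0) 30 5 = true := by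
  decide +kernel

theorem word11_from35 :
    PackMat.rowsOK mask rowsOf (words.getD 11 []) (relScalars.getD 11 0) 35 5 = true := by
  decide +kernel

theorem word11_from40 :
    PackMat.rowsOK mask rowsOf (words.getD 11 []) (relScalars.getD 11 0) 40 5 = true := by
  decide +kernel

theorem word11_ok : ∀ q < 9,
    PackMat.rowsOK mask rowsOf (words.getD 11 []) (relScalars.getD 11 0) (5 * q) 5 = true
  | 0, _ => word11_from0
  | 1, _ => word11_from5
  | 2, _ => word11_from10
  | 3, _ => word11_from15
  | 4, _ => word11_from20
  | 5, _ => word11_from25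
  | 6, _ => word11_from30
  | 7, _ => word11_from35
  | 8, _ => word11_from40
  | n + 9, h => absurd h (Nat.not_lt.2 (Nat.le_add_left 9 n))

theorem word12_from0 :
    PackMat.rowsOK mask rowsOf (words.getD 12 []) (relScalars.getD 12 0) 0 5 = true := by
  decide +kernel

theorem word12_from5 :
    PackMat.rowsOK mask rowsOf (words.getD 12 []) (relScalars.getD 12 0) 5 5 = true := by
  decide +kernel

theorem word12_from10 :
    PackMat.rowsOK mask rowsOf (words.getD 12 []) (relScalars.getD 12 0) 10 5 = true := by
  decide +kernel

theorem word12_from15 :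
    PackMat.rowsOK mask rowsOf (words.getD 12 []) (relScalars.getD 12 0) 15 5 = true := by
  decide +kernel

theorem word12_from20 :
    PackMat.rowsOK mask rowsOf (words.getD 12 []) (relScalars.getD 12 0) 20 5 = true := by
  decide +kernel

theorem word12_from25 :
    PackMat.rowsOK mask rowsOf (words.getD 12 []) (relScalars.getD 12 0) 25 5 = true := by
  decide +kernel

theorem word12_from30 :
    PackMat.rowsOK mask rowsOf (words.getD 12 []) (relScalars.getD 12 0) 30 5 = true := by
  decide +kernel

theorem word12_from35 :
    PackMat.rowsOK mask rowsOf (words.getD 12 []) (relScalars.getD 12 0) 35 5 = true := by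
  decide +kernel

theorem word12_from40 :
    PackMat.rowsOK mask rowsOf (words.getD 12 []) (relScalars.getD 12 0) 40 5 = true := by
  decide +kernel

theorem word12_ok : ∀ q < 9,
    PackMat.rowsOK mask rowsOf (words.getD 12 []) (relScalars.getD 12 0) (5 * q) 5 = true
  | 0, _ => word12_from0
  | 1, _ => word12_from5
  | 2, _ => word12_from10
  | 3, _ => word12_from15
  | 4, _ => word12_from20
  | 5, _ => word12_from25
  | 6, _ => word12_from30
  | 7, _ => word12_from35
  | 8, _ => word12_from40
  | n + 9, h => absurd h (Nat.not_lt.2 (Nat.le_add_left 9 n))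

theorem word17_from0 :
    PackMat.rowsOK mask rowsOf (words.getD 17 []) (relScalars.getD 17 0) 0 5 = true := by
  decide +kernel

theorem word17_from5 :
    PackMat.rowsOK mask rowsOf (words.getD 17 []) (relScalars.getD 17 0) 5 5 = true := by
  decide +kernel

theorem word17_from10 :
    PackMat.rowsOK mask rowsOf (words.getD 17 []) (relScalars.getD 17 0) 10 5 = true := by
  decide +kernel

theorem word17_from15 :
    PackMat.rowsOK mask rowsOf (words.getD 17 []) (relScalars.getD 17 0) 15 5 = true := by
  decide +kernel

theorem word17_from20 :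
    PackMat.rowsOK mask rowsOf (words.getD 17 []) (relScalars.getD 17 0) 20 5 = true := by
  decide +kernel

theorem word17_from25 :
    PackMat.rowsOK mask rowsOf (words.getD 17 []) (relScalars.getD 17 0) 25 5 = true := by
  decide +kernel

theorem word17_from30 :
    PackMat.rowsOK mask rowsOf (words.getD 17 []) (relScalars.getD 17 0) 30 5 = true := by
  decide +kernel

theorem word17_from35 :
    PackMat.rowsOK mask rowsOf (words.getD 17 []) (relScalars.getD 17 0) 35 5 = true := by
  decide +kernel

theorem word17_from40 :
    PackMat.rowsOK mask rowsOf (words.getD 17 []) (relScalars.getD 17 0) 40 5 = true := by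
  decide +kernel

theorem word17_ok : ∀ q < 9,
    PackMat.rowsOK mask rowsOf (words.getD 17 []) (relScalars.getD 17 0) (5 * q) 5 = true
  | 0, _ => word17_from0
  | 1, _ => word17_from5
  | 2, _ => word17_from10
  | 3, _ => word17_from15
  | 4, _ => word17_from20
  | 5, _ => word17_from25
  | 6, _ => word17_from30
  | 7, _ => word17_from35
  | 8, _ => word17_from40
  | n + 9, h => absurd h (Nat.not_lt.2 (Nat.le_add_left 9 n))

theorem word24_from0 :
    PackMat.rowsOK mask rowsOf (words.getD 24 []) (relScalars.getD 24 0) 0 5 = true := by
  decide +kernel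

theorem word24_from5 :
    PackMat.rowsOK mask rowsOf (words.getD 24 []) (relScalars.getD 24 0) 5 5 = true := by
  decide +kernel

theorem word24_from10 :
    PackMat.rowsOK mask rowsOf (words.getD 24 []) (relScalars.getD 24 0) 10 5 = true := by
  decide +kernel

theorem word24_from15 :
    PackMat.rowsOK mask rowsOf (words.getD 24 []) (relScalars.getD 24 0) 15 5 = true := by
  decide +kernel

theorem word24_from20 :
    PackMat.rowsOK mask rowsOf (words.getD 24 []) (relScalars.getD 24 0) 20 5 = true := by
  decide +kernel

theorem word24_from25 :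
    PackMat.rowsOK mask rowsOf (words.getD 24 []) (relScalars.getD 24 0) 25 5 = true := by
  decide +kernel

theorem word24_from30 :
    PackMat.rowsOK mask rowsOf (words.getD 24 []) (relScalars.getD 24 0) 30 5 = true := by
  decide +kernel

theorem word24_from35 :
    PackMat.rowsOK mask rowsOf (words.getD 24 []) (relScalars.getD 24 0) 35 5 = true := by
  decide +kernel

theorem word24_from40 :
    PackMat.rowsOK mask rowsOf (words.getD 24 []) (relScalars.getD 24 0) 40 5 = true := by
  decide +kernel

theorem word24_ok : ∀ q < 9,
    PackMat.rowsOK mask rowsOf (words.getD 24 []) (relScalars.getD 24 0) (5 * q) 5 = true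
  | 0, _ => word24_from0
  | 1, _ => word24_from5
  | 2, _ => word24_from10
  | 3, _ => word24_from15
  | 4, _ => word24_from20
  | 5, _ => word24_from25
  | 6, _ => word24_from30
  | 7, _ => word24_from35
  | 8, _ => word24_from40
  | n + 9, h => absurd h (Nat.not_lt.2 (Nat.le_add_left 9 n))

theorem word26_from0 :
    PackMat.rowsOK mask rowsOf (words.getD 26 []) (relScalars.getD 26 0) 0 5 = true := by
  decide +kernel

theorem word26_from5 :
    PackMat.rowsOK mask rowsOf (words.getD 26 []) (relScalars.getD 26 0) 5 5 = true := by
  decide +kernel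

theorem word26_from10 :
    PackMat.rowsOK mask rowsOf (words.getD 26 []) (relScalars.getD 26 0) 10 5 = true := by
  decide +kernel

theorem word26_from15 :
    PackMat.rowsOK mask rowsOf (words.getD 26 []) (relScalars.getD 26 0) 15 5 = true := by
  decide +kernel

theorem word26_from20 :
    PackMat.rowsOK mask rowsOf (words.getD 26 []) (relScalars.getD 26 0) 20 5 = true := by
  decide +kernel

theorem word26_from25 :
    PackMat.rowsOK mask rowsOf (words.getD 26 []) (relScalars.getD 26 0) 25 5 = true := by
  decide +kernel

theorem word26_from30 :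
    PackMat.rowsOK mask rowsOf (words.getD 26 []) (relScalars.getD 26 0) 30 5 = true := by
  decide +kernel

theorem word26_from35 :
    PackMat.rowsOK mask rowsOf (words.getD 26 []) (relScalars.getD 26 0) 35 5 = true := by
  decide +kernel

theorem word26_from40 :
    PackMat.rowsOK mask rowsOf (words.getD 26 []) (relScalars.getD 26 0) 40 5 = true := by
  decide +kernel

theorem word26_ok : ∀ q < 9,
    PackMat.rowsOK mask rowsOf (words.getD 26 []) (relScalars.getD 26 0) (5 * q) 5 = true
  | 0, _ => word26_from0
  | 1, _ => word26_from5
  | 2, _ => word26_from10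
  | 3, _ => word26_from15
  | 4, _ => word26_from20
  | 5, _ => word26_from25
  | 6, _ => word26_from30
  | 7, _ => word26_from35
  | 8, _ => word26_from40
  | n + 9, h => absurd h (Nat.not_lt.2 (Nat.le_add_left 9 n))

end Cfsg.Lib.CosetEnum.ONMat
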