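import Cfsg.Agent.Lib.CosetEnum.ONMat.Data
import Cfsg.Agent.Lib.CosetEnum.ONMat.Words
import Cfsg.Agent.Lib.PackMat.Defs

/-! Generated certificate. -/

set_option autoImplicit false
set_option maxRecDepth 20000

namespace Cfsg.Lib.CosetEnum.ONMat

theorem word2_from0 :
    PackMat.rowsOK mask rowsOf (words.getD 2 []) (relScalars.getD 2 0) 0 5 = true := by
  decide +kernel

theorem word2_from5 :
    PackMat.rowsOK mask rowsOf (words.getD 2 []) (relScalars.getD 2 0) 5 5 = true := by
  decide +kernel

theorem word2_from10 :
    PackMat.rowsOK mask rowsOf (words.getD 2 []) (relScalars.getD 2 0) 10 5 = true := by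
  decide +kernel

theorem word2_from15 :
    PackMat.rowsOK mask rowsOf (words.getD 2 []) (relScalars.getD 2 0) 15 5 = true := by
  decide +kernel

theorem word2_from20 :
    PackMat.rowsOK mask rowsOf (words.getD 2 []) (relScalars.getD 2 0) 20 5 = true := by
  decide +kernel

theorem word2_from25 :
    PackMat.rowsOK mask rowsOf (words.getD 2 []) (relScalars.getD 2 0) 25 5 = true := by
  decide +kernel

theorem word2_from30 :
    PackMat.rowsOK mask rowsOf (words.getD 2 []) (relScalars.getD 2 0) 30 5 = true := by
  decide +kernel

theorem word2_from35 :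
    PackMat.rowsOK mask rowsOf (words.getD 2 []) (relScalars.getD 2 0) 35 5 = true := by
  decide +kernel

theorem word2_from40 :
    PackMat.rowsOK mask rowsOf (words.getD 2 []) (relScalars.getD 2 0) 40 5 = true := by
  decide +kernel

theorem word2_ok : ∀ q < 9,
    PackMat.rowsOK mask rowsOf (words.getD 2 []) (relScalars.getD 2 0) (5 * q) 5 = true
  | 0, _ => word2_from0
  | 1, _ => word2_from5
  | 2, _ => word2_from10
  | 3, _ => word2_from15
  | 4, _ => word2_from20
  | 5, _ => word2_from25
  | 6, _ => word2_from30
  | 7, _ => word2_from35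
  | 8, _ => word2_from40
  | n + 9, h => absurd h (Nat.not_lt.2 (Nat.le_add_left 9 n))

theorem word6_from0 :
    PackMat.rowsOK mask rowsOf (words.getD 6 []) (relScalars.getD 6 0) 0 5 = true := by
  decide +kernel

theorem word6_from5 :
    PackMat.rowsOK mask rowsOf (words.getD 6 []) (relScalars.getD 6 0) 5 5 = true := by
  decide +kernel

theorem word6_from10 :
    PackMat.rowsOK mask rowsOf (words.getD 6 []) (relScalars.getD 6 0) 10 5 = true := by
  decide +kernel

theorem word6_from15 :
    PackMat.rowsOK mask rowsOf (words.getD 6 []) (relScalars.getD 6 0) 15 5 = true := by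
  decide +kernel

theorem word6_from20 :
    PackMat.rowsOK mask rowsOf (words.getD 6 []) (relScalars.getD 6 0) 20 5 = true := by
  decide +kernel

theorem word6_from25 :
    PackMat.rowsOK mask rowsOf (words.getD 6 []) (relScalars.getD 6 0) 25 5 = true := by
  decide +kernel

theorem word6_from30 :
    PackMat.rowsOK mask rowsOf (words.getD 6 []) (relScalars.getD 6 0) 30 5 = true := by
  decide +kernel

theorem word6_from35 :
    PackMat.rowsOK mask rowsOf (words.getD 6 []) (relScalars.getD 6 0) 35 5 = true := by
  decide +kernel

theorem word6_from40 :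
    PackMat.rowsOK mask rowsOf (words.getD 6 []) (relScalars.getD 6 0) 40 5 = true := by
  decide +kernel

theorem word6_ok : ∀ q < 9,
    PackMat.rowsOK mask rowsOf (words.getD 6 []) (relScalars.getD 6 0) (5 * q) 5 = true
  | 0, _ => word6_from0
  | 1, _ => word6_from5
  | 2, _ => word6_from10
  | 3, _ => word6_from15
  | 4, _ => word6_from20
  | 5, _ => word6_from25
  | 6, _ => word6_from30
  | 7, _ => word6_from35
  | 8, _ => word6_from40
  | n + 9, h => absurd h (Nat.not_lt.2 (Nat.le_add_left 9 n))

theorem word9_from0 :
    PackMat.rowsOK mask rowsOf (words.getD 9 []) (relScalars.getD 9 0) 0 5 = true := by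
  decide +kernel

theorem word9_from5 :
    PackMat.rowsOK mask rowsOf (words.getD 9 []) (relScalars.getD 9 0) 5 5 = true := by
  decide +kernel

theorem word9_from10 :
    PackMat.rowsOK mask rowsOf (words.getD 9 []) (relScalars.getD 9 0) 10 5 = true := by
  decide +kernel

theorem word9_from15 :
    PackMat.rowsOK mask rowsOf (words.getD 9 []) (relScalars.getD 9 0) 15 5 = true := by
  decide +kernel

theorem word9_from20 :
    PackMat.rowsOK mask rowsOf (words.getD 9 []) (relScalars.getD 9 0) 20 5 = true := by
  decide +kernel

theorem word9_from25 :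
    PackMat.rowsOK mask rowsOf (words.getD 9 []) (relScalars.getD 9 0) 25 5 = true := by
  decide +kernel

theorem word9_from30 :
    PackMat.rowsOK mask rowsOf (words.getD 9 []) (relScalars.getD 9 0) 30 5 = true := by
  decide +kernel

theorem word9_from35 :
    PackMat.rowsOK mask rowsOf (words.getD 9 []) (relScalars.getD 9 0) 35 5 = true := by
  decide +kernel

theorem word9_from40 :
    PackMat.rowsOK mask rowsOf (words.getD 9 []) (relScalars.getD 9 0) 40 5 = true := by
  decide +kernel

theorem word9_ok : ∀ q < 9,
    PackMat.rowsOK mask rowsOf (words.getD 9 []) (relScalars.getD 9 0) (5 * q) 5 = true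
  | 0, _ => word9_from0
  | 1, _ => word9_from5
  | 2, _ => word9_from10
  | 3, _ => word9_from15
  | 4, _ => word9_from20
  | 5, _ => word9_from25
  | 6, _ => word9_from30
  | 7, _ => word9_from35
  | 8, _ => word9_from40
  | n + 9, h => absurd h (Nat.not_lt.2 (Nat.le_add_left 9 n))

theorem word13_from0 :
    PackMat.rowsOK mask rowsOf (words.getD 13 []) (relScalars.getD 13 0) 0 5 = true := by
  decide +kernel

theorem word13_from5 :
    PackMat.rowsOK mask rowsOf (words.getD 13 []) (relScalars.getD 13 0) 5 5 = true := by
  decide +kernel

theorem word13_from10 :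
    PackMat.rowsOK mask rowsOf (words.getD 13 []) (relScalars.getD 13 0) 10 5 = true := by
  decide +kernel

theorem word13_from15 :
    PackMat.rowsOK mask rowsOf (words.getD 13 []) (relScalars.getD 13 0) 15 5 = true := by
  decide +kernel

theorem word13_from20 :
    PackMat.rowsOK mask rowsOf (words.getD 13 []) (relScalars.getD 13 0) 20 5 = true := by
  decide +kernel

theorem word13_from25 :
    PackMat.rowsOK mask rowsOf (words.getD 13 []) (relScalars.getD 13 0) 25 5 = true := by
  decide +kernel

theorem word13_from30 :
    PackMat.rowsOK mask rowsOf (words.getD 13 []) (relScalars.getD 13 0) 30 5 = true := by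
  decide +kernel

theorem word13_from35 :
    PackMat.rowsOK mask rowsOf (words.getD 13 []) (relScalars.getD 13 0) 35 5 = true := by
  decide +kernel

theorem word13_from40 :
    PackMat.rowsOK mask rowsOf (words.getD 13 []) (relScalars.getD 13 0) 40 5 = true := by
  decide +kernel

theorem word13_ok : ∀ q < 9,
    PackMat.rowsOK mask rowsOf (words.getD 13 []) (relScalars.getD 13 0) (5 * q) 5 = true
  | 0, _ => word13_from0
  | 1, _ => word13_from5
  | 2, _ => word13_from10
  | 3, _ => word13_from15
  | 4, _ => word13_from20
  | 5, _ => word13_from25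
  | 6, _ => word13_from30
  | 7, _ => word13_from35
  | 8, _ => word13_from40
  | n + 9, h => absurd h (Nat.not_lt.2 (Nat.le_add_left 9 n))

theorem word18_from0 :
    PackMat.rowsOK mask rowsOf (words.getD 18 []) (relScalars.getD 18 0) 0 5 = true := by
  decide +kernel

theorem word18_from5 :
    PackMat.rowsOK mask rowsOf (words.getD 18 []) (relScalars.getD 18 0) 5 5 = true := by
  decide +kernel

theorem word18_from10 :
    PackMat.rowsOK mask rowsOf (words.getD 18 []) (relScalars.getD 18 0) 10 5 = true := by
  decide +kernel

theorem word18_from15 :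
    PackMat.rowsOK mask rowsOf (words.getD 18 []) (relScalars.getD 18 0) 15 5 = true := by
  decide +kernel

theorem word18_from20 :
    PackMat.rowsOK mask rowsOf (words.getD 18 []) (relScalars.getD 18 0) 20 5 = true := by
  decide +kernel

theorem word18_from25 :
    PackMat.rowsOK mask rowsOf (words.getD 18 []) (relScalars.getD 18 0) 25 5 = true := by
  decide +kernel

theorem word18_from30 :
    PackMat.rowsOK mask rowsOf (words.getD 18 []) (relScalars.getD 18 0) 30 5 = true := by
  decide +kernel

theorem word18_from35 :
    PackMat.rowsOK mask rowsOf (words.getD 18 []) (relScalars.getD 18 0) 35 5 = true := by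
  decide +kernel

theorem word18_from40 :
    PackMat.rowsOK mask rowsOf (words.getD 18 []) (relScalars.getD 18 0) 40 5 = true := by
  decide +kernel

theorem word18_ok : ∀ q < 9,
    PackMat.rowsOK mask rowsOf (words.getD 18 []) (relScalars.getD 18 0) (5 * q) 5 = true
  | 0, _ => word18_from0
  | 1, _ => word18_from5
  | 2, _ => word18_from10
  | 3, _ => word18_from15
  | 4, _ => word18_from20
  | 5, _ => word18_from25
  | 6, _ => word18_from30
  | 7, _ => word18_from35
  | 8, _ => word18_from40
  | n + 9, h => absurd h (Nat.not_lt.2 (Nat.le_add_left 9 n))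

theorem word19_from0 :
    PackMat.rowsOK mask rowsOf (words.getD 19 []) (relScalars.getD 19 0) 0 5 = true := by
  decide +kernel

theorem word19_from5 :
    PackMat.rowsOK mask rowsOf (words.getD 19 []) (relScalars.getD 19 0) 5 5 = true := by
  decide +kernel

theorem word19_from10 :
    PackMat.rowsOK mask rowsOf (words.getD 19 []) (relScalars.getD 19 0) 10 5 = true := by
  decide +kernel

theorem word19_from15 :
    PackMat.rowsOK mask rowsOf (words.getD 19 []) (relScalars.getD 19 0) 15 5 = true := by
  decide +kernel

theorem word19_from20 :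
    PackMat.rowsOK mask rowsOf (words.getD 19 []) (relScalars.getD 19 0) 20 5 = true := by
  decide +kernel

theorem word19_from25 :
    PackMat.rowsOK mask rowsOf (words.getD 19 []) (relScalars.getD 19 0) 25 5 = true := by
  decide +kernel

theorem word19_from30 :
    PackMat.rowsOK mask rowsOf (words.getD 19 []) (relScalars.getD 19 0) 30 5 = true := by
  decide +kernel

theorem word19_from35 :
    PackMat.rowsOK mask rowsOf (words.getD 19 []) (relScalars.getD 19 0) 35 5 = true := by
  decide +kernel

theorem word19_from40 :
    PackMat.rowsOK mask rowsOf (words.getD 19 []) (relScalars.getD 19 0) 40 5 = true := by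
  decide +kernel

theorem word19_ok : ∀ q < 9,
    PackMat.rowsOK mask rowsOf (words.getD 19 []) (relScalars.getD 19 0) (5 * q) 5 = true
  | 0, _ => word19_from0
  | 1, _ => word19_from5
  | 2, _ => word19_from10
  | 3, _ => word19_from15
  | 4, _ => word19_from20
  | 5, _ => word19_from25
  | 6, _ => word19_from30
  | 7, _ => word19_from35
  | 8, _ => word19_from40
  | n + 9, h => absurd h (Nat.not_lt.2 (Nat.le_add_left 9 n))

theorem word27_from0 :
    PackMat.rowsOK mask rowsOf (words.getD 27 []) (relScalars.getD 27 0) 0 5 = true := by
  decide +kernel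

theorem word27_from5 :
    PackMat.rowsOK mask rowsOf (words.getD 27 []) (relScalars.getD 27 0) 5 5 = true := by
  decide +kernel

theorem word27_from10 :
    PackMat.rowsOK mask rowsOf (words.getD 27 []) (relScalars.getD 27 0) 10 5 = true := by
  decide +kernel

theorem word27_from15 :
    PackMat.rowsOK mask rowsOf (words.getD 27 []) (relScalars.getD 27 0) 15 5 = true := by
  decide +kernel

theorem word27_from20 :
    PackMat.rowsOK mask rowsOf (words.getD 27 []) (relScalars.getD 27 0) 20 5 = true := by
  decide +kernel

theorem word27_from25 :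
    PackMat.rowsOK mask rowsOf (words.getD 27 []) (relScalars.getD 27 0) 25 5 = true := by
  decide +kernel

theorem word27_from30 :
    PackMat.rowsOK mask rowsOf (words.getD 27 []) (relScalars.getD 27 0) 30 5 = true := by
  decide +kernel

theorem word27_from35 :
    PackMat.rowsOK mask rowsOf (words.getD 27 []) (relScalars.getD 27 0) 35 5 = true := by
  decide +kernel

theorem word27_from40 :
    PackMat.rowsOK mask rowsOf (words.getD 27 []) (relScalars.getD 27 0) 40 5 = true := by
  decide +kernel

theorem word27_ok : ∀ q < 9,
    PackMat.rowsOK mask rowsOf (words.getD 27 []) (relScalars.getD 27 0) (5 * q) 5 = true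
  | 0, _ => word27_from0
  | 1, _ => word27_from5
  | 2, _ => word27_from10
  | 3, _ => word27_from15
  | 4, _ => word27_from20
  | 5, _ => word27_from25
  | 6, _ => word27_from30
  | 7, _ => word27_from35
  | 8, _ => word27_from40
  | n + 9, h => absurd h (Nat.not_lt.2 (Nat.le_add_left 9 n))

theorem word28_from0 :
    PackMat.rowsOK mask rowsOf (words.getD 28 []) (relScalars.getD 28 0) 0 5 = true := by
  decide +kernel

theorem word28_from5 :
    PackMat.rowsOK mask rowsOf (words.getD 28 []) (relScalars.getD 28 0) 5 5 = true := by
  decide +kernel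

theorem word28_from10 :
    PackMat.rowsOK mask rowsOf (words.getD 28 []) (relScalars.getD 28 0) 10 5 = true := by
  decide +kernel

theorem word28_from15 :
    PackMat.rowsOK mask rowsOf (words.getD 28 []) (relScalars.getD 28 0) 15 5 = true := by
  decide +kernel

theorem word28_from20 :
    PackMat.rowsOK mask rowsOf (words.getD 28 []) (relScalars.getD 28 0) 20 5 = true := by
  decide +kernel

theorem word28_from25 :
    PackMat.rowsOK mask rowsOf (words.getD 28 []) (relScalars.getD 28 0) 25 5 = true := by
  decide +kernel

theorem word28_from30 :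
    PackMat.rowsOK mask rowsOf (words.getD 28 []) (relScalars.getD 28 0) 30 5 = true := by
  decide +kernel

theorem word28_from35 :
    PackMat.rowsOK mask rowsOf (words.getD 28 []) (relScalars.getD 28 0) 35 5 = true := by
  decide +kernel

theorem word28_from40 :
    PackMat.rowsOK mask rowsOf (words.getD 28 []) (relScalars.getD 28 0) 40 5 = true := by
  decide +kernel

theorem word28_ok : ∀ q < 9,
    PackMat.rowsOK mask rowsOf (words.getD 28 []) (relScalars.getD 28 0) (5 * q) 5 = true
  | 0, _ => word28_from0
  | 1, _ => word28_from5
  | 2, _ => word28_from10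
  | 3, _ => word28_from15
  | 4, _ => word28_from20
  | 5, _ => word28_from25
  | 6, _ => word28_from30
  | 7, _ => word28_from35
  | 8, _ => word28_from40
  | n + 9, h => absurd h (Nat.not_lt.2 (Nat.le_add_left 9 n))

end Cfsg.Lib.CosetEnum.ONMat
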