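import Cfsg.Agent.Lib.CosetEnum.ONMat.Data
import Cfsg.Agent.Lib.CosetEnum.ONMat.Words
import Cfsg.Agent.Lib.PackMat.Defs

/-! Generated certificate. -/

set_option autoImplicit false
set_option maxRecDepth 20000

namespace Cfsg.Lib.CosetEnum.ONMat

theorem word4_from0 :
    PackMat.rowsOK mask rowsOf (words.getD 4 []) (relScalars.getD 4 0) 0 5 = true := by
  decide +kernel

theorem word4_from5 :
    PackMat.rowsOK mask rowsOf (words.getD 4 []) (relScalars.getD 4 0) 5 5 = true := by
  decide +kernel

theorem word4_from10 :
    PackMat.rowsOK mask rowsOf (words.getD 4 []) (relScalars.getD 4 0) 10 5 = true := by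
  decide +kernel

theorem word4_from15 :
    PackMat.rowsOK mask rowsOf (words.getD 4 []) (relScalars.getD 4 0) 15 5 = true := by
  decide +kernel

theorem word4_from20 :
    PackMat.rowsOK mask rowsOf (words.getD 4 []) (relScalars.getD 4 0) 20 5 = true := by
  decide +kernel

theorem word4_from25 :
    PackMat.rowsOK mask rowsOf (words.getD 4 []) (relScalars.getD 4 0) 25 5 = true := by
  decide +kernel

theorem word4_from30 :
    PackMat.rowsOK mask rowsOf (words.getD 4 []) (relScalars.getD 4 0) 30 5 = true := by
  decide +kernel

theorem word4_from35 :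
    PackMat.rowsOK mask rowsOf (words.getD 4 []) (relScalars.getD 4 0) 35 5 = true := by
  decide +kernel

theorem word4_from40 :
    PackMat.rowsOK mask rowsOf (words.getD 4 []) (relScalars.getD 4 0) 40 5 = true := by
  decide +kernel

theorem word4_ok : ∀ q < 9,
    PackMat.rowsOK mask rowsOf (words.getD 4 []) (relScalars.getD 4 0) (5 * q) 5 = true
  | 0, _ => word4_from0
  | 1, _ => word4_from5
  | 2, _ => word4_from10
  | 3, _ => word4_from15
  | 4, _ => word4_from20
  | 5, _ => word4_from25
  | 6, _ => word4_from30
  | 7, _ => word4_from35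
  | 8, _ => word4_from40
  | n + 9, h => absurd h (Nat.not_lt.2 (Nat.le_add_left 9 n))

theorem word7_from0 :
    PackMat.rowsOK mask rowsOf (words.getD 7 []) (relScalars.getD 7 0) 0 5 = true := by
  decide +kernel

theorem word7_from5 :
    PackMat.rowsOK mask rowsOf (words.getD 7 []) (relScalars.getD 7 0) 5 5 = true := by
  decide +kernel

theorem word7_from10 :
    PackMat.rowsOK mask rowsOf (words.getD 7 []) (relScalars.getD 7 0) 10 5 = true := by
  decide +kernel

theorem word7_from15 :
    PackMat.rowsOK mask rowsOf (words.getD 7 []) (relScalars.getD 7 0) 15 5 = true := by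
  decide +kernel

theorem word7_from20 :
    PackMat.rowsOK mask rowsOf (words.getD 7 []) (relScalars.getD 7 0) 20 5 = true := by
  decide +kernel

theorem word7_from25 :
    PackMat.rowsOK mask rowsOf (words.getD 7 []) (relScalars.getD 7 0) 25 5 = true := by
  decide +kernel

theorem word7_from30 :
    PackMat.rowsOK mask rowsOf (words.getD 7 []) (relScalars.getD 7 0) 30 5 = true := by
  decide +kernel

theorem word7_from35 :
    PackMat.rowsOK mask rowsOf (words.getD 7 []) (relScalars.getD 7 0) 35 5 = true := by
  decide +kernel

theorem word7_from40 :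
    PackMat.rowsOK mask rowsOf (words.getD 7 []) (relScalars.getD 7 0) 40 5 = true := by
  decide +kernel

theorem word7_ok : ∀ q < 9,
    PackMat.rowsOK mask rowsOf (words.getD 7 []) (relScalars.getD 7 0) (5 * q) 5 = true
  | 0, _ => word7_from0
  | 1, _ => word7_from5
  | 2, _ => word7_from10
  | 3, _ => word7_from15
  | 4, _ => word7_from20
  | 5, _ => word7_from25
  | 6, _ => word7_from30
  | 7, _ => word7_from35
  | 8, _ => word7_from40
  | n + 9, h => absurd h (Nat.not_lt.2 (Nat.le_add_left 9 n))

theorem word14_from0 :
    PackMat.rowsOK mask rowsOf (words.getD 14 []) (relScalars.getD 14 0) 0 5 = true := by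
  decide +kernel

theorem word14_from5 :
    PackMat.rowsOK mask rowsOf (words.getD 14 []) (relScalars.getD 14 0) 5 5 = true := by
  decide +kernel

theorem word14_from10 :
    PackMat.rowsOK mask rowsOf (words.getD 14 []) (relScalars.getD 14 0) 10 5 = true := by
  decide +kernel

theorem word14_from15 :
    PackMat.rowsOK mask rowsOf (words.getD 14 []) (relScalars.getD 14 0) 15 5 = true := by
  decide +kernel

theorem word14_from20 :
    PackMat.rowsOK mask rowsOf (words.getD 14 []) (relScalars.getD 14 0) 20 5 = true := by
  decide +kernel

theorem word14_from25 :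
    PackMat.rowsOK mask rowsOf (words.getD 14 []) (relScalars.getD 14 0) 25 5 = true := by
  decide +kernel

theorem word14_from30 :
    PackMat.rowsOK mask rowsOf (words.getD 14 []) (relScalars.getD 14 0) 30 5 = true := by
  decide +kernel

theorem word14_from35 :
    PackMat.rowsOK mask rowsOf (words.getD 14 []) (relScalars.getD 14 0) 35 5 = true := by
  decide +kernel

theorem word14_from40 :
    PackMat.rowsOK mask rowsOf (words.getD 14 []) (relScalars.getD 14 0) 40 5 = true := by
  decide +kernel

theorem word14_ok : ∀ q < 9,
    PackMat.rowsOK mask rowsOf (words.getD 14 []) (relScalars.getD 14 0) (5 * q) 5 = true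
  | 0, _ => word14_from0
  | 1, _ => word14_from5
  | 2, _ => word14_from10
  | 3, _ => word14_from15
  | 4, _ => word14_from20
  | 5, _ => word14_from25
  | 6, _ => word14_from30
  | 7, _ => word14_from35
  | 8, _ => word14_from40
  | n + 9, h => absurd h (Nat.not_lt.2 (Nat.le_add_left 9 n))

theorem word16_from0 :
    PackMat.rowsOK mask rowsOf (words.getD 16 []) (relScalars.getD 16 0) 0 5 = true := by
  decide +kernel

theorem word16_from5 :
    PackMat.rowsOK mask rowsOf (words.getD 16 []) (relScalars.getD 16 0) 5 5 = true := by
  decide +kernel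

theorem word16_from10 :
    PackMat.rowsOK mask rowsOf (words.getD 16 []) (relScalars.getD 16 0) 10 5 = true := by
  decide +kernel

theorem word16_from15 :
    PackMat.rowsOK mask rowsOf (words.getD 16 []) (relScalars.getD 16 0) 15 5 = true := by
  decide +kernel

theorem word16_from20 :
    PackMat.rowsOK mask rowsOf (words.getD 16 []) (relScalars.getD 16 0) 20 5 = true := by
  decide +kernel

theorem word16_from25 :
    PackMat.rowsOK mask rowsOf (words.getD 16 []) (relScalars.getD 16 0) 25 5 = true := by
  decide +kernel

theorem word16_from30 :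
    PackMat.rowsOK mask rowsOf (words.getD 16 []) (relScalars.getD 16 0) 30 5 = true := by
  decide +kernel

theorem word16_from35 :
    PackMat.rowsOK mask rowsOf (words.getD 16 []) (relScalars.getD 16 0) 35 5 = true := by
  decide +kernel

theorem word16_from40 :
    PackMat.rowsOK mask rowsOf (words.getD 16 []) (relScalars.getD 16 0) 40 5 = true := by
  decide +kernel

theorem word16_ok : ∀ q < 9,
    PackMat.rowsOK mask rowsOf (words.getD 16 []) (relScalars.getD 16 0) (5 * q) 5 = true
  | 0, _ => word16_from0
  | 1, _ => word16_from5
  | 2, _ => word16_from10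
  | 3, _ => word16_from15
  | 4, _ => word16_from20
  | 5, _ => word16_from25
  | 6, _ => word16_from30
  | 7, _ => word16_from35
  | 8, _ => word16_from40
  | n + 9, h => absurd h (Nat.not_lt.2 (Nat.le_add_left 9 n))

theorem word20_from0 :
    PackMat.rowsOK mask rowsOf (words.getD 20 []) (relScalars.getD 20 0) 0 5 = true := by
  decide +kernel

theorem word20_from5 :
    PackMat.rowsOK mask rowsOf (words.getD 20 []) (relScalars.getD 20 0) 5 5 = true := by
  decide +kernel

theorem word20_from10 :
    PackMat.rowsOK mask rowsOf (words.getD 20 []) (relScalars.getD 20 0) 10 5 = true := by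
  decide +kernel

theorem word20_from15 :
    PackMat.rowsOK mask rowsOf (words.getD 20 []) (relScalars.getD 20 0) 15 5 = true := by
  decide +kernel

theorem word20_from20 :
    PackMat.rowsOK mask rowsOf (words.getD 20 []) (relScalars.getD 20 0) 20 5 = true := by
  decide +kernel

theorem word20_from25 :
    PackMat.rowsOK mask rowsOf (words.getD 20 []) (relScalars.getD 20 0) 25 5 = true := by
  decide +kernel

theorem word20_from30 :
    PackMat.rowsOK mask rowsOf (words.getD 20 []) (relScalars.getD 20 0) 30 5 = true := by
  decide +kernel

theorem word20_from35 :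
    PackMat.rowsOK mask rowsOf (words.getD 20 []) (relScalars.getD 20 0) 35 5 = true := by
  decide +kernel

theorem word20_from40 :
    PackMat.rowsOK mask rowsOf (words.getD 20 []) (relScalars.getD 20 0) 40 5 = true := by
  decide +kernel

theorem word20_ok : ∀ q < 9,
    PackMat.rowsOK mask rowsOf (words.getD 20 []) (relScalars.getD 20 0) (5 * q) 5 = true
  | 0, _ => word20_from0
  | 1, _ => word20_from5
  | 2, _ => word20_from10
  | 3, _ => word20_from15
  | 4, _ => word20_from20
  | 5, _ => word20_from25
  | 6, _ => word20_from30
  | 7, _ => word20_from35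
  | 8, _ => word20_from40
  | n + 9, h => absurd h (Nat.not_lt.2 (Nat.le_add_left 9 n))

theorem word22_from0 :
    PackMat.rowsOK mask rowsOf (words.getD 22 []) (relScalars.getD 22 0) 0 5 = true := by
  decide +kernel

theorem word22_from5 :
    PackMat.rowsOK mask rowsOf (words.getD 22 []) (relScalars.getD 22 0) 5 5 = true := by
  decide +kernel

theorem word22_from10 :
    PackMat.rowsOK mask rowsOf (words.getD 22 []) (relScalars.getD 22 0) 10 5 = true := by
  decide +kernel

theorem word22_from15 :
    PackMat.rowsOK mask rowsOf (words.getD 22 []) (relScalars.getD 22 0) 15 5 = true := by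
  decide +kernel

theorem word22_from20 :
    PackMat.rowsOK mask rowsOf (words.getD 22 []) (relScalars.getD 22 0) 20 5 = true := by
  decide +kernel

theorem word22_from25 :
    PackMat.rowsOK mask rowsOf (words.getD 22 []) (relScalars.getD 22 0) 25 5 = true := by
  decide +kernel

theorem word22_from30 :
    PackMat.rowsOK mask rowsOf (words.getD 22 []) (relScalars.getD 22 0) 30 5 = true := by
  decide +kernel

theorem word22_from35 :
    PackMat.rowsOK mask rowsOf (words.getD 22 []) (relScalars.getD 22 0) 35 5 = true := by
  decide +kernel

theorem word22_from40 :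
    PackMat.rowsOK mask rowsOf (words.getD 22 []) (relScalars.getD 22 0) 40 5 = true := by
  decide +kernel

theorem word22_ok : ∀ q < 9,
    PackMat.rowsOK mask rowsOf (words.getD 22 []) (relScalars.getD 22 0) (5 * q) 5 = true
  | 0, _ => word22_from0
  | 1, _ => word22_from5
  | 2, _ => word22_from10
  | 3, _ => word22_from15
  | 4, _ => word22_from20
  | 5, _ => word22_from25
  | 6, _ => word22_from30
  | 7, _ => word22_from35
  | 8, _ => word22_from40
  | n + 9, h => absurd h (Nat.not_lt.2 (Nat.le_add_left 9 n))

theorem word23_from0 :
    PackMat.rowsOK mask rowsOf (words.getD 23 []) (relScalars.getD 23 0) 0 5 = true := by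
  decide +kernel

theorem word23_from5 :
    PackMat.rowsOK mask rowsOf (words.getD 23 []) (relScalars.getD 23 0) 5 5 = true := by
  decide +kernel

theorem word23_from10 :
    PackMat.rowsOK mask rowsOf (words.getD 23 []) (relScalars.getD 23 0) 10 5 = true := by
  decide +kernel

theorem word23_from15 :
    PackMat.rowsOK mask rowsOf (words.getD 23 []) (relScalars.getD 23 0) 15 5 = true := by
  decide +kernel

theorem word23_from20 :
    PackMat.rowsOK mask rowsOf (words.getD 23 []) (relScalars.getD 23 0) 20 5 = true := by
  decide +kernel

theorem word23_from25 :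
    PackMat.rowsOK mask rowsOf (words.getD 23 []) (relScalars.getD 23 0) 25 5 = true := by
  decide +kernel

theorem word23_from30 :
    PackMat.rowsOK mask rowsOf (words.getD 23 []) (relScalars.getD 23 0) 30 5 = true := by
  decide +kernel

theorem word23_from35 :
    PackMat.rowsOK mask rowsOf (words.getD 23 []) (relScalars.getD 23 0) 35 5 = true := by
  decide +kernel

theorem word23_from40 :
    PackMat.rowsOK mask rowsOf (words.getD 23 []) (relScalars.getD 23 0) 40 5 = true := by
  decide +kernel

theorem word23_ok : ∀ q < 9,
    PackMat.rowsOK mask rowsOf (words.getD 23 []) (relScalars.getD 23 0) (5 * q) 5 = true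
  | 0, _ => word23_from0
  | 1, _ => word23_from5
  | 2, _ => word23_from10
  | 3, _ => word23_from15
  | 4, _ => word23_from20
  | 5, _ => word23_from25
  | 6, _ => word23_from30
  | 7, _ => word23_from35
  | 8, _ => word23_from40
  | n + 9, h => absurd h (Nat.not_lt.2 (Nat.le_add_left 9 n))

end Cfsg.Lib.CosetEnum.ONMat
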