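import Cfsg.Agent.Lib.CosetEnum.ONMat.Checks
import Cfsg.Agent.Lib.CosetEnum.ONMat.WordsPart0
import Cfsg.Agent.Lib.CosetEnum.ONMat.WordsPart1
import Cfsg.Agent.Lib.CosetEnum.ONMat.WordsPart2
import Cfsg.Agent.Lib.CosetEnum.ONMat.WordsPart3
import Cfsg.Agent.Lib.PackMat.Sem
import Cfsg.Agent.Lib.CosetEnum.Groups.ONSimple

/-!
# The triple cover of the O'Nan group inside `SL(45, 7)`

The seven matrices satisfy the relators up to scalars. The group they generate has the presented
O'Nan group as its quotient by the scalars of order three, which form its centre.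
-/

set_option autoImplicit false
set_option maxRecDepth 20000

namespace Cfsg.Lib.CosetEnum.ONMat

open PackMat

theorem words_eq : words = ONPres.relWords := by decide +kernel

theorem row_eq {j : ℕ} (h : ∀ q < 9,
    rowsOK mask rowsOf (words.getD j []) (relScalars.getD j 0) (5 * q) 5 = true) :
    ∀ i < 45, rowWord mask rowsOf (unitRow i 1) (words.getD j []) =
      unitRow i (relScalars.getD j 0) := fun i hi =>
  rowsOK_get (h (i / 5) (by omega)) (by omega) (by omega)

theorem word_rows : ∀ j < 30, ∀ q < 9,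
    rowsOK mask rowsOf (words.getD j []) (relScalars.getD j 0) (5 * q) 5 = true
  | 0, _ => word0_ok
  | 1, _ => word1_ok
  | 2, _ => word2_ok
  | 3, _ => word3_ok
  | 4, _ => word4_ok
  | 5, _ => word5_ok
  | 6, _ => word6_ok
  | 7, _ => word7_ok
  | 8, _ => word8_ok
  | 9, _ => word9_ok
  | 10, _ => word10_ok
  | 11, _ => word11_ok
  | 12, _ => word12_ok
  | 13, _ => word13_ok
  | 14, _ => word14_ok
  | 15, _ => word15_ok
  | 16, _ => word16_ok
  | 17, _ => word17_ok
  | 18, _ => word18_ok
  | 19, _ => word19_ok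
  | 20, _ => word20_ok
  | 21, _ => word21_ok
  | 22, _ => word22_ok
  | 23, _ => word23_ok
  | 24, _ => word24_ok
  | 25, _ => word25_ok
  | 26, _ => word26_ok
  | 27, _ => word27_ok
  | 28, _ => word28_ok
  | 29, _ => word29_ok
  | n + 30, h => absurd h (Nat.not_lt.2 (Nat.le_add_left 30 n))

theorem scalars_cases : ∀ j < 30, relScalars.getD j 0 = 1 ∨ relScalars.getD j 0 = 4 := by
  decide +kernel

theorem lt_seven {j : ℕ} (hj : j < 30) : ∀ g ∈ words.getD j [], g < 7 := by
  have hj' : j < words.length := by rw [lengths.1]; exact hj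
  rw [List.getD_eq_getElem _ _ hj']
  intro g hg
  have h := List.all_eq_true.1 letters_ok _ (List.getElem_mem hj')
  simpa [Nat.blt_eq] using List.all_eq_true.1 h g hg

/-- The matrix of a generator. -/
noncomputable def mat (g : ℕ) : Matrix (Fin 45) (Fin 45) (ZMod 7) := toMat 45 (rowsOf g)

theorem matWord_relator {j : ℕ} (hj : j < 30) :
    matWord 45 rowsOf (words.getD j []) = ((relScalars.getD j 0 : ℕ) : ZMod 7) • 1 :=
  wordOK_sound (by norm_num) (Nat.eq_of_beq_eq_true mask_eq) rowsOf
    (fun g hg => mats_ok g (lt_seven hj g hg))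
    (by rcases scalars_cases j hj with h | h <;> omega) (row_eq (word_rows j hj))

theorem squares_get {g : ℕ} (hg : g < 7) :
    words.getD g [] = [g, g] ∧ relScalars.getD g 0 = 1 := by
  have h := List.all_eq_true.1 squares g (List.mem_range.2 hg)
  simp only [Bool.and_eq_true, Nat.beq_eq] at h
  exact ⟨beqW_eq h.1, h.2⟩

theorem mat_mul_self {g : ℕ} (hg : g < 7) : mat g * mat g = 1 := by
  have h := matWord_relator (j := g) (by omega)
  obtain ⟨h1, h2⟩ := squares_get hg
  rw [h1, h2] at h
  simpa [matWord, mat] using h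

theorem flags : ∀ e : Fin 7 → Fin 2,
    (∀ w ∈ words, (w.map fun g => if h : g < 7 then (e ⟨g, h⟩).1 else 0).sum % 2 = 0) →
      ∀ g, e g = 0 := by
  decide +kernel

theorem det_mat {g : ℕ} (hg : g < 7) : (mat g).det = 1 := by
  have hsign : ∀ a : ZMod 7, a * a = 1 → ∃ e : Fin 2, a = (-1) ^ e.1 := by decide +kernel
  have h2 : ∀ a : Fin 7, ∃ e : Fin 2, (mat a.1).det = (-1) ^ e.1 := fun a =>
    hsign _ (by rw [← Matrix.det_mul, mat_mul_self a.2, Matrix.det_one])
  choose e he using h2
  have hdet : ∀ w : List ℕ, (∀ a ∈ w, a < 7) → (matWord 45 rowsOf w).det =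
      (-1) ^ (w.map fun g => if h : g < 7 then (e ⟨g, h⟩).1 else 0).sum := by
    intro w
    induction w with
    | nil => intro _; simp [matWord]
    | cons a w ih =>
      intro hw
      have ha : a < 7 := hw a (by simp)
      rw [matWord, Matrix.det_mul, ih fun b hb => hw b (by simp [hb]), List.map_cons, List.sum_cons,
        dif_pos ha, pow_add, show (toMat 45 (rowsOf a)).det = _ from he ⟨a, ha⟩, mul_comm]
  have hz := flags e fun w hw => by
    obtain ⟨j, hj, rfl⟩ := List.mem_iff_getElem.1 hw
    replace hj : j < 30 := lengths.1 ▸ hj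
    have h := hdet _ (lt_seven hj)
    rw [matWord_relator hj, Matrix.det_smul, Matrix.det_one, mul_one, Fintype.card_fin] at h
    rw [List.getD_eq_getElem _ _ (show j < words.length from lengths.1.symm ▸ hj)] at h
    have hc : ((relScalars.getD j 0 : ℕ) : ZMod 7) ^ 45 = 1 := by
      rcases scalars_cases j hj with h' | h' <;> rw [h'] <;> decide +kernel
    rw [hc] at h
    rcases Nat.even_or_odd (List.map (fun g => if h : g < 7 then (e ⟨g, h⟩).1 else 0) words[j]).sum
      with he' | he'
    · exact Nat.even_iff.1 he'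
    · exact absurd (h.trans he'.neg_one_pow) (by decide +kernel)
  rw [show g = (⟨g, hg⟩ : Fin 7).1 from rfl, he ⟨g, hg⟩, hz ⟨g, hg⟩]
  rfl

/-- A lifted generator. -/
noncomputable def lift1 {g : ℕ} (h : g < 7) : Matrix.SpecialLinearGroup (Fin 45) (ZMod 7) :=
  ⟨mat g, det_mat h⟩

/-- The lifted generators. -/
noncomputable def z (g : ℕ) : Matrix.SpecialLinearGroup (Fin 45) (ZMod 7) :=
  if h : g < 7 then lift1 h else 1

theorem z_coe {g : ℕ} (h : g < 7) :
    (z g : Matrix (Fin 45) (Fin 45) (ZMod 7)) = mat g := by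
  rw [show z g = lift1 h from dif_pos h]; rfl

theorem z_of_ge {g : ℕ} (h : ¬ g < 7) : z g = 1 := dif_neg h

theorem z_mul_self (g : ℕ) : z g * z g = 1 := by
  by_cases h : g < 7
  · refine Subtype.ext ?_
    rw [Matrix.SpecialLinearGroup.coe_mul, z_coe h, mat_mul_self h,
      Matrix.SpecialLinearGroup.coe_one]
  · rw [z_of_ge h, mul_one]

theorem coe_wordVal : ∀ {w : List ℕ}, (∀ g ∈ w, g < 7) →
    ((wordVal z w : Matrix.SpecialLinearGroup (Fin 45) (ZMod 7)) : Matrix (Fin 45) (Fin 45) (ZMod 7))
      = matWord 45 rowsOf w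
  | [], _ => rfl
  | g :: w, h => by
    have hg : g < 7 := h g (by simp)
    rw [wordVal, Matrix.SpecialLinearGroup.coe_mul, coe_wordVal fun a ha => h a (by simp [ha]),
      matWord, gen, if_neg (by simp only [eps]; omega), z_coe hg]
    rfl

/-- The scalar of order three. -/
def omega : Matrix.SpecialLinearGroup (Fin 45) (ZMod 7) :=
  ⟨(4 : ZMod 7) • 1, by
    rw [Matrix.det_smul, Matrix.det_one, mul_one, Fintype.card_fin]; decide +kernel⟩

theorem omega_coe :
    (omega : Matrix (Fin 45) (Fin 45) (ZMod 7)) = (4 : ZMod 7) • 1 := rfl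

theorem wordVal_relator {j : ℕ} (hj : j < 30) :
    wordVal z (words.getD j []) = 1 ∨ wordVal z (words.getD j []) = omega := by
  have h := (coe_wordVal (lt_seven hj)).trans (matWord_relator hj)
  rcases scalars_cases j hj with h' | h' <;> rw [h'] at h
  · left; exact Subtype.ext (by simpa using h)
  · right; exact Subtype.ext (h.trans (by rw [omega_coe]; rfl))

theorem omega_comm (A : Matrix.SpecialLinearGroup (Fin 45) (ZMod 7)) : A * omega = omega * A :=
  Subtype.ext (by
    rw [Matrix.SpecialLinearGroup.coe_mul, Matrix.SpecialLinearGroup.coe_mul, omega_coe,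
      Matrix.mul_smul, Matrix.smul_mul, mul_one, one_mul])

theorem orderOf_omega : orderOf omega = 3 := by
  have : Fact (Nat.Prime 3) := ⟨Nat.prime_three⟩
  refine orderOf_eq_prime (Subtype.ext ?_) fun e => ?_
  · rw [Matrix.SpecialLinearGroup.coe_pow]
    show ((4 : ZMod 7) • (1 : Matrix (Fin 45) (Fin 45) (ZMod 7))) ^ 3 = 1
    rw [smul_pow, one_pow, show (4 : ZMod 7) ^ 3 = 1 by decide +kernel, one_smul]
  · have h := congrFun (congrFun (congrArg Subtype.val e) 0) 0
    simp only [omega, Matrix.smul_apply, Matrix.one_apply_eq, smul_eq_mul, mul_one,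
      Matrix.SpecialLinearGroup.coe_one] at h
    exact absurd h (by decide +kernel)

/-- The group generated by the lifted generators. -/
noncomputable def cover : Subgroup (Matrix.SpecialLinearGroup (Fin 45) (ZMod 7)) :=
  Subgroup.closure (z '' {g | g < 7})

theorem wordVal_mem : ∀ w : List ℕ, wordVal z w ∈ cover
  | [] => cover.one_mem
  | g :: w => by
    refine cover.mul_mem (wordVal_mem w) ?_
    unfold gen
    split
    · exact cover.one_mem
    · by_cases h : g < 7
      · exact Subgroup.subset_closure ⟨g, h, rfl⟩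
      · rw [z_of_ge h]; exact cover.one_mem

theorem omega_mem : omega ∈ cover := by
  have h4 : relScalars.getD 25 0 = 4 := by decide +kernel
  have h := (coe_wordVal (lt_seven (j := 25) (by norm_num))).trans (matWord_relator (by norm_num))
  rw [h4] at h
  have e : wordVal z (words.getD 25 []) = omega := Subtype.ext (h.trans (by rw [omega_coe]; rfl))
  exact e ▸ wordVal_mem _

theorem z_zero_not_mem : z 0 ∉ Subgroup.zpowers omega := by
  intro h
  obtain ⟨k, hk⟩ := (mem_powers_iff_mem_zpowers.2 h :)
  obtain ⟨i, hi, hi'⟩ := List.any_eq_true.1 a_not_scalar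
  obtain ⟨j, hj, hij⟩ := List.any_eq_true.1 hi'
  simp only [Bool.and_eq_true, Bool.not_eq_true', List.mem_range] at hij hi hj
  have hne : i ≠ j := fun e => by simp [e] at hij
  have hd : ((unpack 45 ((rowsOf 0).getD i (0, 0)).2).getD j 0) ≠ 0 := fun e => by
    rw [e] at hij; simp at hij
  have hlt : (unpack 45 ((rowsOf 0).getD i (0, 0)).2).getD j 0 < 7 := by
    obtain ⟨hlen, -, hrow⟩ := matOK_spec (mats_ok 0 (by norm_num))
    rw [List.getD_eq_getElem _ _ (by rw [length_unpack]; exact hj)]
    refine (hrow _ ?_).2 _ (List.getElem_mem _)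
    rw [List.getD_eq_getElem _ _ (by omega)]
    exact List.getElem_mem _
  have e := congrFun (congrFun (congrArg Subtype.val hk) ⟨i, hi⟩) ⟨j, hj⟩
  rw [Matrix.SpecialLinearGroup.coe_pow, omega_coe, smul_pow, one_pow, z_coe (by norm_num)] at e
  rw [Matrix.smul_apply, Matrix.one_apply_ne (by simpa using hne), smul_zero] at e
  have e' : (0 : ZMod 7) = (((unpack 45 ((rowsOf 0).getD i (0, 0)).2).getD j 0 : ℕ) : ZMod 7) := e
  have := congrArg ZMod.val e'.symm
  rw [ZMod.val_natCast, Nat.mod_eq_of_lt hlt, ZMod.val_zero] at this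
  exact hd this

attribute [local irreducible] z mat omega

set_option maxHeartbeats 400000 in
/-- The centre of the cover has order three and the quotient is the O'Nan group. -/
theorem realization :
    Nat.card (Subgroup.center cover) = 3 ∧ Cfsg.IsON (cover ⧸ Subgroup.center cover) := by
  obtain ⟨hsimp, hcard⟩ := ONPres.isON
  let t : cover := ⟨omega, omega_mem⟩
  let Z : Subgroup cover := Subgroup.zpowers t
  have hZc : Z ≤ Subgroup.center cover :=
    Subgroup.zpowers_le.2 (Subgroup.mem_center_iff.2 fun g => Subtype.ext (omega_comm g.1))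
  have hZn : Z.Normal := ⟨fun a ha g => by
    rw [Subgroup.mem_center_iff.1 (hZc ha) g, mul_inv_cancel_right]; exact ha⟩
  let y : ℕ → cover := fun g => if h : g < 7 then ⟨z g, Subgroup.subset_closure ⟨g, h, rfl⟩⟩ else 1
  have hy : ∀ g, y g * y g = 1 := fun g => by
    simp only [y]
    split
    · exact Subtype.ext (z_mul_self g)
    · exact one_mul 1
  have hyv : ∀ g, (y g : Matrix.SpecialLinearGroup (Fin 45) (ZMod 7)) = z g := fun g => by
    simp only [y]
    split
    · rfl
    · next h => rw [z_of_ge h]; rfl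
  let q : cover →* cover ⧸ Z := QuotientGroup.mk' Z
  have hrel : ∀ w ∈ ONPres.relWords, wordVal (fun g => q (y g)) w = 1 := by
    rw [← words_eq]
    intro w hw
    obtain ⟨j, hj, rfl⟩ := List.mem_iff_getElem.1 hw
    rw [← map_wordVal q y, ← MonoidHom.mem_ker, QuotientGroup.ker_mk']
    have e : (cover.subtype (wordVal y words[j]) : Matrix.SpecialLinearGroup (Fin 45) (ZMod 7))
        = wordVal z words[j] := by
      rw [map_wordVal]; exact congrArg (wordVal · _) (funext hyv)
    rcases wordVal_relator (j := j) (by rw [← lengths.1]; exact hj) with h | h <;>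
      rw [List.getD_eq_getElem _ _ hj] at h
    · rw [show wordVal y words[j] = 1 from Subtype.ext (e.trans h)]; exact Z.one_mem
    · rw [show wordVal y words[j] = t from Subtype.ext (e.trans h)]; exact Subgroup.mem_zpowers t
  obtain ⟨f, hf⟩ := ONPres.exists_hom (fun g => q (y g))
    (fun g => by rw [← map_mul, hy, map_one]) hrel
  have hsurj : Function.Surjective f := by
    have htop : (⊤ : Subgroup cover) ≤ f.range.comap q := by
      have e : Subgroup.closure ((Subtype.val : cover → _) ⁻¹' (z '' {g | g < 7})) = ⊤ :=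
        Subgroup.closure_closure_coe_preimage
      rw [← e, Subgroup.closure_le]
      intro a ha
      obtain ⟨g, hg, hga⟩ := ha
      refine Subgroup.mem_comap.2 ⟨ONPres.x g, ?_⟩
      rw [hf g hg]
      exact congrArg q (Subtype.ext ((hyv g).trans hga))
    have h : ∀ a : cover, q a ∈ f.range := fun a => Subgroup.mem_comap.1 (htop (Subgroup.mem_top a))
    intro b
    obtain ⟨a, rfl⟩ := QuotientGroup.mk'_surjective Z b
    exact h a
  have hne : f.ker ≠ ⊤ := fun h => by
    have h1 : f (ONPres.x 0) = 1 := MonoidHom.mem_ker.1 (h ▸ Subgroup.mem_top _)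
    rw [hf 0 (by norm_num), ← MonoidHom.mem_ker, QuotientGroup.ker_mk'] at h1
    obtain ⟨k, hk⟩ := Subgroup.mem_zpowers_iff.1 h1
    refine z_zero_not_mem (Subgroup.mem_zpowers_iff.2 ⟨k, ?_⟩)
    rw [← hyv 0, ← hk]
    rfl
  have hinj : Function.Injective f := by
    rw [← MonoidHom.ker_eq_bot_iff]
    exact (hsimp.eq_bot_or_eq_top_of_normal _ (MonoidHom.normal_ker f)).resolve_right hne
  let e : Cfsg.Spor.ON ≃* cover ⧸ Z := MulEquiv.ofBijective f ⟨hinj, hsurj⟩
  have : Nontrivial (cover ⧸ Z) := e.toEquiv.symm.nontrivial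
  have hs : IsSimpleGroup (cover ⧸ Z) := IsSimpleGroup.isSimpleGroup_of_surjective
    e.toMonoidHom e.surjective
  have hcQ : Nat.card (cover ⧸ Z) = 460815505920 := (Nat.card_congr e.toEquiv).symm.trans hcard
  have hcen : Subgroup.center cover = Z := by
    refine le_antisymm (fun a ha => ?_) hZc
    rw [← QuotientGroup.eq_one_iff]
    rcases hs.eq_bot_or_eq_top_of_normal (Subgroup.center (cover ⧸ Z)) inferInstance with h | h
    · rw [← Subgroup.mem_bot, ← h, Subgroup.mem_center_iff]
      intro b
      obtain ⟨b', rfl⟩ := QuotientGroup.mk_surjective b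
      exact congrArg q (Subgroup.mem_center_iff.1 ha b')
    · exfalso
      have : IsMulCommutative (cover ⧸ Z) := ⟨⟨fun u v =>
        (Subgroup.mem_center_iff.1 (h ▸ Subgroup.mem_top v) u)⟩⟩
      letI : CommGroup (cover ⧸ Z) :=
        { (inferInstance : Group (cover ⧸ Z)) with mul_comm := this.is_comm.comm }
      have hp : (Nat.card (cover ⧸ Z)).Prime := IsSimpleGroup.prime_card
      rw [hcQ] at hp
      exact absurd hp (by norm_num)
  refine ⟨?_, ?_⟩
  · rw [hcen, Nat.card_zpowers, ← Subgroup.orderOf_coe, show (t : Matrix.SpecialLinearGroup _ _) =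
      omega from rfl, orderOf_omega]
  · let e' : cover ⧸ Subgroup.center cover ≃* cover ⧸ Z :=
      QuotientGroup.quotientMulEquivOfEq hcen
    have : Nontrivial (cover ⧸ Subgroup.center cover) := e'.toEquiv.nontrivial
    exact ⟨IsSimpleGroup.isSimpleGroup_of_surjective e'.symm.toMonoidHom e'.symm.surjective,
      (Nat.card_congr e'.toEquiv).trans hcQ⟩

end Cfsg.Lib.CosetEnum.ONMat
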